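import Mathlib
import Cfsg.Prelude.Def_Classical
import Cfsg.Prelude.Def_LieClassical

/-!
Embeddings of unitary groups into groups over the subfield.
-/

set_option autoImplicit false

namespace CfsgLib.UnitaryEmb

open scoped Matrix

variable {K F : Type*} [Field K] [Fintype K] [Field F] [Fintype F]

/-- A finite field with `q` elements embeds in one with `q ^ 2` elements. -/
lemma exists_ringHom {q : ℕ} (hK : Fintype.card K = q ^ 2) (hF : Fintype.card F = q) :
    Nonempty (F →+* K) := by
  obtain ⟨p, _, k, hp, hk⟩ := FiniteField.card' F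
  obtain ⟨p', _, j, hp', hj⟩ := FiniteField.card' K
  have hpp : p = p' := by
    have h : p ∣ p' ^ (j : ℕ) := by
      rw [← hj, hK, ← hF, hk]
      exact (dvd_pow_self p k.ne_zero).trans (dvd_pow_self _ two_ne_zero)
    exact (Nat.prime_dvd_prime_iff_eq hp hp').1 (hp.dvd_of_dvd_pow h)
  subst hpp
  have : Fact p.Prime := ⟨hp⟩
  let _ : Algebra (ZMod p) F := ZMod.algebra F p
  let _ : Algebra (ZMod p) K := ZMod.algebra K p
  have h1 : Module.finrank (ZMod p) F = k := Nat.pow_right_injective hp.two_le (by
    show p ^ Module.finrank (ZMod p) F = p ^ (k : ℕ)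
    rw [FiniteField.pow_finrank_eq_card, hk])
  have h2 : Module.finrank (ZMod p) K = k * 2 := Nat.pow_right_injective hp.two_le (by
    show p ^ Module.finrank (ZMod p) K = p ^ ((k : ℕ) * 2)
    rw [FiniteField.pow_finrank_eq_card, hK, ← hF, hk, pow_mul])
  obtain ⟨f⟩ := FiniteField.nonempty_algHom_of_finrank_dvd (F := ZMod p) (K := F) (L := K)
    (by rw [h1, h2]; exact dvd_mul_right _ _)
  exact ⟨f.toRingHom⟩

variable [Algebra F K]

/-- The involution `x ↦ x ^ |F|`. -/
noncomputable def conj (F K : Type*) [Field F] [Fintype F] [Field K] [Algebra F K] : K →ₐ[F] K :=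
  FiniteField.frobeniusAlgHom F K

lemma conj_apply (x : K) : conj F K x = x ^ Fintype.card F := rfl

lemma conj_conj {q : ℕ} (hK : Fintype.card K = q ^ 2) (hF : Fintype.card F = q) (x : K) :
    conj F K (conj F K x) = x := by
  rw [conj_apply, conj_apply, ← pow_mul, hF, ← sq, ← hK, FiniteField.pow_card]

lemma conj_fixed_mem_range {x : K} (hx : conj F K x = x) : ∃ a : F, algebraMap F K a = x := by
  classical
  let P : Polynomial K := Polynomial.X ^ Fintype.card F - Polynomial.X
  have hP : P ≠ 0 := FiniteField.X_pow_card_sub_X_ne_zero K Fintype.one_lt_card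
  have hdeg : P.natDegree = Fintype.card F :=
    FiniteField.X_pow_card_sub_X_natDegree_eq K Fintype.one_lt_card
  have hroot : ∀ y : K, y ∈ P.roots ↔ y ^ Fintype.card F = y := by
    intro y
    simp [P, Polynomial.mem_roots hP, sub_eq_zero]
  let S := (Finset.univ : Finset F).image (algebraMap F K)
  have hS : S ⊆ P.roots.toFinset := by
    intro y hy
    obtain ⟨a, -, rfl⟩ := Finset.mem_image.1 hy
    rw [Multiset.mem_toFinset, hroot, ← map_pow, FiniteField.pow_card]
  have hcard : P.roots.toFinset.card ≤ S.card := by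
    rw [Finset.card_image_of_injective _ (algebraMap F K).injective, Finset.card_univ, ← hdeg]
    exact (Multiset.toFinset_card_le _).trans (Polynomial.card_roots' P)
  have : x ∈ S := by
    rw [Finset.eq_of_subset_of_card_le hS hcard, Multiset.mem_toFinset, hroot]
    exact hx
  obtain ⟨a, -, ha⟩ := Finset.mem_image.1 this
  exact ⟨a, ha⟩

lemma exists_conj_ne {q : ℕ} (hK : Fintype.card K = q ^ 2) (hF : Fintype.card F = q) :
    ∃ θ : K, conj F K θ ≠ θ := by
  by_contra! h
  have hsurj : Function.Surjective (algebraMap F K) := fun x => conj_fixed_mem_range (h x)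
  have := Fintype.card_le_of_surjective _ hsurj
  rw [hK, hF] at this
  have h1 : 1 < q := hF ▸ Fintype.one_lt_card
  nlinarith

lemma finrank_eq_two {q : ℕ} (hK : Fintype.card K = q ^ 2) (hF : Fintype.card F = q) :
    Module.finrank F K = 2 := by
  have h := Module.card_eq_pow_finrank (K := F) (V := K)
  rw [hK, hF] at h
  exact (Nat.pow_right_injective (hF ▸ Fintype.one_lt_card : 1 < q) h).symm

/-- A monic quadratic without roots in `F` has a root in `K`, moved by conjugation. -/
lemma exists_root_quadratic {q : ℕ} (hK : Fintype.card K = q ^ 2) (hF : Fintype.card F = q)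
    (a b : F) (h : ∀ t : F, t ^ 2 - a * t + b ≠ 0) :
    ∃ θ : K, θ ^ 2 - algebraMap F K a * θ + algebraMap F K b = 0 ∧
      θ + conj F K θ = algebraMap F K a ∧ θ * conj F K θ = algebraMap F K b := by
  classical
  let P : Polynomial F := Polynomial.X ^ 2 - Polynomial.C a * Polynomial.X + Polynomial.C b
  have hdeg : P.natDegree = 2 := by simp only [P]; compute_degree!
  have hirr : Irreducible P := by
    refine (Polynomial.irreducible_iff_roots_eq_zero_of_degree_le_three (by omega) (by omega)).2 ?_
    refine Multiset.eq_zero_of_forall_notMem fun t ht => h t ?_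
    have := (Polynomial.mem_roots'.1 ht).2
    simpa [P] using this
  have : Fact (Irreducible P) := ⟨hirr⟩
  have hfin : Module.finrank F (AdjoinRoot P) = 2 := by
    rw [(AdjoinRoot.powerBasis hirr.ne_zero).finrank, AdjoinRoot.powerBasis_dim, hdeg]
  obtain ⟨f⟩ := FiniteField.nonempty_algHom_of_finrank_dvd (F := F) (K := AdjoinRoot P) (L := K)
    (by rw [hfin, finrank_eq_two hK hF])
  let θ := f (AdjoinRoot.root P)
  have hθ : θ ^ 2 - algebraMap F K a * θ + algebraMap F K b = 0 := by
    have h1 : Polynomial.aeval θ P = 0 := by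
      rw [Polynomial.aeval_algHom_apply, AdjoinRoot.aeval_eq, AdjoinRoot.mk_self, map_zero]
    simpa [P] using h1
  have hne : conj F K θ ≠ θ := by
    intro hc
    obtain ⟨t, ht⟩ := conj_fixed_mem_range hc
    refine h t ((algebraMap F K).injective ?_)
    rw [map_add, map_sub, map_pow, map_mul, ht, hθ, map_zero]
  have hθ' := congrArg (conj F K) hθ
  simp only [map_add, map_sub, map_pow, map_mul, AlgHom.commutes, map_zero] at hθ'
  have hsum : θ + conj F K θ = algebraMap F K a := by
    have h3 : (θ - conj F K θ) * (θ + conj F K θ - algebraMap F K a) = 0 := by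
      linear_combination hθ - hθ'
    rcases mul_eq_zero.1 h3 with h4 | h4
    · exact absurd (sub_eq_zero.1 h4).symm hne
    · exact sub_eq_zero.1 h4
  refine ⟨θ, hθ, hsum, ?_⟩
  linear_combination θ * hsum - hθ

variable {ι : Type} [Fintype ι] [DecidableEq ι] {m : ℕ}

/-- The matrix over `F` of a `K`-linear map, in coordinates `E`. -/
noncomputable def toSubfield (E : (ι → F) ≃ₗ[F] (Fin m → K)) :
    GL (Fin m) K →* Matrix ι ι F where
  toFun g := LinearMap.toMatrix' (E.symm.toLinearMap ∘ₗ
    ((Matrix.mulVecLin (g : Matrix (Fin m) (Fin m) K)).restrictScalars F) ∘ₗ E.toLinearMap)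
  map_one' := by
    have h : (E.symm.toLinearMap ∘ₗ
        ((Matrix.mulVecLin ((1 : GL (Fin m) K) : Matrix (Fin m) (Fin m) K)).restrictScalars F) ∘ₗ
          E.toLinearMap) = LinearMap.id := by
      refine LinearMap.ext fun v => ?_
      simp
    rw [h, LinearMap.toMatrix'_id]
  map_mul' g h := by
    rw [← LinearMap.toMatrix'_comp]
    congr 1
    refine LinearMap.ext fun v => ?_
    simp [Matrix.mulVec_mulVec]

lemma toSubfield_mulVec (E : (ι → F) ≃ₗ[F] (Fin m → K)) (g : GL (Fin m) K) (v : ι → F) :
    E (toSubfield E g *ᵥ v) = (g : Matrix (Fin m) (Fin m) K) *ᵥ E v := by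
  rw [← Matrix.toLin'_apply]
  simp [toSubfield]

/-- The embedding of `GL m K` into the general linear group over the subfield. -/
noncomputable def toSubfieldGL (E : (ι → F) ≃ₗ[F] (Fin m → K)) :
    GL (Fin m) K →* Matrix.GeneralLinearGroup ι F :=
  (toSubfield E).toHomUnits

lemma toSubfieldGL_val (E : (ι → F) ≃ₗ[F] (Fin m → K)) (g : GL (Fin m) K) :
    (toSubfieldGL E g : Matrix ι ι F) = toSubfield E g := rfl

lemma toSubfield_injective (E : (ι → F) ≃ₗ[F] (Fin m → K)) :
    Function.Injective (toSubfield E) := by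
  intro g h hgh
  refine Units.ext (Matrix.ext_iff_mulVec.2 fun v => ?_)
  have := congrArg (fun M => E (M *ᵥ E.symm v)) hgh
  simpa [toSubfield_mulVec] using this

lemma toSubfieldGL_injective (E : (ι → F) ≃ₗ[F] (Fin m → K)) :
    Function.Injective (toSubfieldGL E) := fun g h hgh =>
  toSubfield_injective E (congrArg Units.val hgh)

/-- If the Hermitian norm pulls back to `Q`, the unitary group maps into the isometries of `Q`. -/
theorem exists_hom_isometry {q : ℕ} (E : (ι → F) ≃ₗ[F] (Fin m → K)) (Q : (ι → F) → F)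
    (hQ : ∀ v, Cfsg.hermForm m K q (E v) (E v) = algebraMap F K (Q v)) :
    ∃ φ : ↥(Cfsg.GU m K q) →* ↥(Cfsg.isometryGroup F Q), Function.Injective φ := by
  have hmem : ∀ g : ↥(Cfsg.GU m K q), toSubfieldGL E g ∈ Cfsg.isometryGroup F Q := by
    intro g u v
    refine (algebraMap F K).injective ?_
    show algebraMap F K (Q ((toSubfieldGL E g : Matrix ι ι F) *ᵥ u)) = algebraMap F K (Q u)
    rw [← hQ, ← hQ, toSubfieldGL_val, toSubfield_mulVec]
    exact g.2 (E u) (E u)
  refine ⟨((toSubfieldGL E).comp (Cfsg.GU m K q).subtype).codRestrict _ hmem, fun g h hgh => ?_⟩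
  exact Subtype.ext (toSubfieldGL_injective E (congrArg Subtype.val hgh))

end CfsgLib.UnitaryEmb
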