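import Cfsg.Agent.Lib.UnitaryEmb.Basic

/-!
Coordinates turning the Hermitian norm into split and elliptic quadratic forms.
-/

set_option autoImplicit false

namespace CfsgLib.UnitaryEmb

variable {K F : Type*} [Field K] [Fintype K] [Field F] [Fintype F] [Algebra F K]

lemma finrank_pi {q : ℕ} (hK : Fintype.card K = q ^ 2) (hF : Fintype.card F = q) (m : ℕ) :
    Module.finrank F (Fin m → K) = 2 * m := by
  rw [Module.finrank_pi_fintype]
  simp [finrank_eq_two hK hF, mul_comm]

lemma exists_two_norm_neg_one {q : ℕ} (hK : Fintype.card K = q ^ 2) (hF : Fintype.card F = q) :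
    ∃ α β : K, α * conj F K α = -1 ∧ β * conj F K β = -1 ∧ α ≠ β := by
  classical
  have h1 : 1 < q := hF ▸ Fintype.one_lt_card
  obtain ⟨u, hu⟩ : ∃ u : Kˣ, orderOf u = Fintype.card Kˣ := by
    obtain ⟨u, hu⟩ := IsCyclic.exists_generator (α := Kˣ)
    exact ⟨u, by rw [orderOf_eq_card_of_forall_mem_zpowers hu, Nat.card_eq_fintype_card]⟩
  have hcard : Fintype.card Kˣ = (q - 1) * (q + 1) := by
    rw [Fintype.card_units, hK, mul_comm, ← Nat.sq_sub_sq, one_pow]
  have hN : ∀ x : K, x * conj F K x = x ^ (q + 1) := fun x => by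
    rw [conj_apply, hF, pow_succ']
  -- an element of norm one different from one
  let z : K := ((u ^ (q - 1) : Kˣ) : K)
  have hz : z ≠ 1 := by
    intro h
    have h' : u ^ (q - 1) = 1 := Units.ext h
    have := Nat.le_of_dvd (by omega) (orderOf_dvd_of_pow_eq_one h')
    rw [hu, hcard] at this
    have h2 : (q - 1) * 1 < (q - 1) * (q + 1) := Nat.mul_lt_mul_of_pos_left (by omega) (by omega)
    omega
  have hz1 : z ^ (q + 1) = 1 := by
    show ((u ^ (q - 1) : Kˣ) : K) ^ (q + 1) = 1
    rw [← Units.val_pow_eq_pow_val, ← pow_mul, ← hcard, ← hu, pow_orderOf_eq_one, Units.val_one]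
  obtain ⟨α, hα⟩ : ∃ α : K, α ^ (q + 1) = -1 := by
    rcases Nat.even_or_odd q with he | ho
    · refine ⟨1, ?_⟩
      rw [one_pow]
      have h2 : (2 : K) = 0 := by
        have hKe : Fintype.card K % 2 = 0 := by
          rw [hK, ← Nat.even_iff]; exact Nat.even_pow.2 ⟨he, two_ne_zero⟩
        rw [← FiniteField.even_card_iff_char_two] at hKe
        have : CharP K 2 := hKe ▸ ringChar.charP K
        exact_mod_cast CharP.cast_eq_zero K 2
      linear_combination h2
    · obtain ⟨s, hs⟩ := ho
      refine ⟨((u ^ s : Kˣ) : K), ?_⟩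
      have hsq : (((u ^ s : Kˣ) : K) ^ (q + 1)) ^ 2 = 1 := by
        rw [← Units.val_pow_eq_pow_val, ← Units.val_pow_eq_pow_val, ← pow_mul, ← pow_mul]
        have : s * ((q + 1) * 2) = Fintype.card Kˣ := by
          rw [hcard, hs, Nat.add_sub_cancel]; ring
        rw [this, ← hu, pow_orderOf_eq_one, Units.val_one]
      refine (sq_eq_one_iff.1 hsq).resolve_left fun h => ?_
      rw [← Units.val_pow_eq_pow_val, ← pow_mul, Units.val_eq_one] at h
      have hd := orderOf_dvd_of_pow_eq_one h
      rw [hu, hcard, hs, Nat.add_sub_cancel] at hd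
      have hpos : 0 < s * (2 * s + 1 + 1) := Nat.mul_pos (by omega) (by omega)
      have h4 := Nat.le_of_dvd hpos hd
      nlinarith
  refine ⟨α, α * z, by rw [hN, hα], by rw [hN, mul_pow, hα, hz1, mul_one], ?_⟩
  intro h
  refine hz (mul_left_cancel₀ (a := α) ?_ (by rw [mul_one]; exact h.symm))
  intro h0
  rw [h0, zero_pow (by omega)] at hα
  simp at hα

/-- Coordinates in which the Hermitian norm of two coordinates is the split form. -/
lemma exists_plus_pair {q : ℕ} (hK : Fintype.card K = q ^ 2) (hF : Fintype.card F = q) :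
    ∃ S T : F → F → F → F → K,
      (∀ a b c d a' b' c' d', S (a + a') (b + b') (c + c') (d + d') = S a b c d + S a' b' c' d' ∧
        T (a + a') (b + b') (c + c') (d + d') = T a b c d + T a' b' c' d') ∧
      (∀ r a b c d, S (r * a) (r * b) (r * c) (r * d) = r • S a b c d ∧
        T (r * a) (r * b) (r * c) (r * d) = r • T a b c d) ∧
      (∀ a b c d, S a b c d = 0 → T a b c d = 0 → a = 0 ∧ b = 0 ∧ c = 0 ∧ d = 0) ∧
      (∀ a b c d, S a b c d * conj F K (S a b c d) + T a b c d * conj F K (T a b c d) =
        algebraMap F K (a * c + b * d)) := by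
  obtain ⟨α, β, hα, hβ, hne⟩ := exists_two_norm_neg_one (F := F) (K := K) hK hF
  obtain ⟨θ, hθ⟩ := exists_conj_ne (F := F) (K := K) hK hF
  let σ := conj F K
  let ι := algebraMap F K
  let c₀ : K := 1 + α * σ β
  have hc₀ : c₀ ≠ 0 := by
    intro h
    refine hne ?_
    have hb : σ β ≠ 0 := fun h0 => by
      change conj F K β = 0 at h0
      rw [h0, mul_zero] at hβ; simp at hβ
    refine mul_right_cancel₀ hb ?_
    change α * σ β = β * σ β
    rw [show β * σ β = -1 from hβ]
    linear_combination h
  have hD : θ - σ θ ≠ 0 := sub_ne_zero.2 fun h => hθ h.symm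
  let Z : F → F → K := fun a b => ι a + ι b * θ
  let W : F → F → K := fun c d => σ ((ι c * (-σ θ / (θ - σ θ)) + ι d * (1 / (θ - σ θ))) / c₀)
  refine ⟨fun a b c d => Z a b + W c d, fun a b c d => α * Z a b + β * W c d, ?_, ?_, ?_, ?_⟩
  · intro a b c d a' b' c' d'
    simp only [Z, W, ι, map_add, map_mul, map_div₀]
    constructor <;> ring
  · intro r a b c d
    simp only [Z, W, ι, σ, map_add, map_mul, map_div₀, AlgHom.commutes, Algebra.smul_def]
    constructor <;> ring
  · intro a b c d h1 h2
    have hW : W c d = 0 := by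
      have : (β - α) * W c d = 0 := by linear_combination h2 - α * h1
      exact (mul_eq_zero.1 this).resolve_left (sub_ne_zero.2 (Ne.symm hne))
    have hZ : Z a b = 0 := by
      simp only [hW, add_zero] at h1; exact h1
    have e1 := congrArg σ hZ
    simp only [Z, σ, ι, map_add, map_mul, AlgHom.commutes, map_zero] at e1
    have hb : ι b = 0 := by
      have : ι b * (θ - σ θ) = 0 := by
        simp only [Z] at hZ
        linear_combination hZ - e1
      exact (mul_eq_zero.1 this).resolve_right hD
    have ha : ι a = 0 := by simpa [Z, hb] using hZ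
    have h4 : ι d - ι c * σ θ = 0 := by
      have h5 := congrArg σ hW
      simp only [W, σ, conj_conj hK hF, map_zero, div_eq_zero_iff, hc₀, or_false] at h5
      have hD' : θ - conj F K θ ≠ 0 := hD
      field_simp at h5
      linear_combination h5
    have hc : ι c = 0 := by
      have h5 := congrArg σ h4
      simp only [σ, ι, map_sub, map_mul, AlgHom.commutes, conj_conj hK hF, map_zero] at h5
      have : ι c * (θ - σ θ) = 0 := by linear_combination h4 - h5
      exact (mul_eq_zero.1 this).resolve_right hD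
    have hd : ι d = 0 := by simpa [hc] using h4
    exact ⟨(map_eq_zero _).1 ha, (map_eq_zero _).1 hb, (map_eq_zero _).1 hc, (map_eq_zero _).1 hd⟩
  · intro a b c d
    show (Z a b + W c d) * σ (Z a b + W c d) + (α * Z a b + β * W c d) * σ (α * Z a b + β * W c d) = _
    have hWc : σ (W c d) = (ι c * (-σ θ / (θ - σ θ)) + ι d * (1 / (θ - σ θ))) / c₀ :=
      conj_conj hK hF _
    have hα' : α * σ α = -1 := hα
    have hβ' : β * σ β = -1 := hβ
    have h1 : (Z a b + W c d) * σ (Z a b + W c d) +
        (α * Z a b + β * W c d) * σ (α * Z a b + β * W c d) =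
        Z a b * σ (W c d) * c₀ + σ (Z a b * σ (W c d) * c₀) := by
      simp only [c₀, map_add, map_mul, map_one]
      simp only [σ, conj_conj hK hF] at hα' hβ' ⊢
      linear_combination (Z a b * conj F K (Z a b)) * hα' + (W c d * conj F K (W c d)) * hβ'
    have h2 : Z a b * σ (W c d) * c₀ =
        Z a b * (ι c * (-σ θ / (θ - σ θ)) + ι d * (1 / (θ - σ θ))) := by
      rw [hWc, mul_assoc, div_mul_cancel₀ _ hc₀]
    have hD' : θ - conj F K θ ≠ 0 := hD
    have hD2 : conj F K θ - θ ≠ 0 := sub_ne_zero.2 hθ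
    rw [h1, h2]
    simp only [Z, σ, ι, map_add, map_mul, map_neg, map_sub, map_div₀, map_one, AlgHom.commutes,
      conj_conj hK hF]
    field_simp
    ring

omit [Algebra F K] in
/-- The Hermitian norm on `K ^ (2k)` is a split form over `F`. -/
theorem exists_plus_coords {q : ℕ} (hK : Fintype.card K = q ^ 2) (hF : Fintype.card F = q) (k : ℕ) :
    ∃ E : Σ' _ : Algebra F K, (Fin (k + k) ⊕ Fin (k + k) → F) ≃ₗ[F] (Fin (k + k) → K),
      ∀ v, Cfsg.hermForm (k + k) K q (E.2 v) (E.2 v) =
        (letI := E.1; algebraMap F K (Cfsg.quadFormPlus (k + k) F v)) := by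
  obtain ⟨f⟩ := exists_ringHom hK hF
  let _ : Algebra F K := f.toAlgebra
  obtain ⟨S, T, hadd, hsmul, hzero, hnorm⟩ := exists_plus_pair (F := F) (K := K) hK hF
  let co : (Fin (k + k) ⊕ Fin (k + k) → F) → Fin k → (F → F → F → F → K) → K := fun v j G =>
    G (v (.inl (j.castAdd k))) (v (.inl (j.natAdd k))) (v (.inr (j.castAdd k))) (v (.inr (j.natAdd k)))
  let E₀ : (Fin (k + k) ⊕ Fin (k + k) → F) →ₗ[F] (Fin (k + k) → K) :=
    { toFun := fun v => Fin.append (fun j => co v j S) (fun j => co v j T)
      map_add' := fun u v => by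
        funext i
        refine Fin.addCases (fun j => ?_) (fun j => ?_) i <;>
          simp only [co, Pi.add_apply, Fin.append_left, Fin.append_right, (hadd _ _ _ _ _ _ _ _).1,
            (hadd _ _ _ _ _ _ _ _).2]
      map_smul' := fun r v => by
        funext i
        refine Fin.addCases (fun j => ?_) (fun j => ?_) i <;>
          simp only [co, Pi.smul_apply, smul_eq_mul, RingHom.id_apply, Fin.append_left, Fin.append_right,
            (hsmul _ _ _ _ _).1, (hsmul _ _ _ _ _).2] }
  have hE : ∀ v j, E₀ v (Fin.castAdd k j) = co v j S ∧ E₀ v (Fin.natAdd k j) = co v j T :=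
    fun v j => ⟨Fin.append_left (fun j => co v j S) (fun j => co v j T) j,
      Fin.append_right (fun j => co v j S) (fun j => co v j T) j⟩
  have hinj : Function.Injective E₀ := by
    rw [injective_iff_map_eq_zero]
    intro v hv
    have h : ∀ j : Fin k, _ := fun j => hzero _ _ _ _ ((hE v j).1.symm.trans (congrFun hv _))
      ((hE v j).2.symm.trans (congrFun hv _))
    funext x
    rcases x with i | i <;> refine Fin.addCases (fun j => ?_) (fun j => ?_) i
    · exact (h j).1
    · exact (h j).2.1
    · exact (h j).2.2.1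
    · exact (h j).2.2.2
  refine ⟨⟨f.toAlgebra, E₀.linearEquivOfInjective hinj ?_⟩, fun v => ?_⟩
  · rw [Module.finrank_fintype_fun_eq_card, finrank_pi hK hF]; simp [two_mul]
  · show Cfsg.hermForm (k + k) K q (E₀ v) (E₀ v) = _
    simp only [Cfsg.hermForm, Cfsg.quadFormPlus, map_sum, Fin.sum_univ_add, (hE v _).1, (hE v _).2,
      ← Finset.sum_add_distrib]
    refine Finset.sum_congr rfl fun j _ => ?_
    rw [← hnorm]
    simp only [co, conj_apply, hF]

omit [Algebra F K] in
/-- The Hermitian norm on `K ^ (2k+1)` is an elliptic form over `F`. -/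
theorem exists_minus_coords {q : ℕ} (hK : Fintype.card K = q ^ 2) (hF : Fintype.card F = q) (k : ℕ)
    (a b : F) (hab : ∀ z₁ z₂ : F, z₁ ^ 2 + a * z₁ * z₂ + b * z₂ ^ 2 = 0 → z₁ = 0 ∧ z₂ = 0) :
    ∃ E : Σ' _ : Algebra F K, (((Fin (k + k) ⊕ Fin (k + k)) ⊕ Fin 2) → F) ≃ₗ[F] (Fin (k + k + 1) → K),
      ∀ v, Cfsg.hermForm (k + k + 1) K q (E.2 v) (E.2 v) =
        (letI := E.1; algebraMap F K (Cfsg.quadFormMinus (k + k) F a b v)) := by
  obtain ⟨⟨alg, E⟩, hE⟩ := exists_plus_coords (K := K) (F := F) hK hF k
  let _ : Algebra F K := alg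
  obtain ⟨θ, hroot, hsum, hprod⟩ := exists_root_quadratic (K := K) hK hF a b (fun t h => by
    have := hab (-t) 1 (by linear_combination h)
    exact one_ne_zero this.2)
  let E₁ : (((Fin (k + k) ⊕ Fin (k + k)) ⊕ Fin 2) → F) →ₗ[F] (Fin (k + k + 1) → K) :=
    { toFun := fun v => Fin.snoc (E (v ∘ Sum.inl))
        (algebraMap F K (v (.inr 0)) + algebraMap F K (v (.inr 1)) * θ)
      map_add' := fun u v => by
        have e : (u + v) ∘ Sum.inl = u ∘ Sum.inl + v ∘ Sum.inl := rfl
        funext i
        refine Fin.lastCases ?_ (fun j => ?_) i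
        · simp; ring
        · simp [e]
      map_smul' := fun r v => by
        have e : (r • v) ∘ Sum.inl = r • (v ∘ Sum.inl) := rfl
        funext i
        refine Fin.lastCases ?_ (fun j => ?_) i
        · simp [Algebra.smul_def]; ring
        · simp [e] }
  have hθ : ∀ r : F, algebraMap F K r ≠ θ := by
    intro r hr
    have h := hab (-r) 1 (by
      refine (algebraMap F K).injective ?_
      simp only [map_add, map_mul, map_pow, map_neg, map_one, map_zero, hr]
      linear_combination hroot)
    exact one_ne_zero h.2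
  have hEl : ∀ v, E₁ v (Fin.last _) = algebraMap F K (v (.inr 0)) + algebraMap F K (v (.inr 1)) * θ :=
    fun v => by simp [E₁]
  have hEc : ∀ v j, E₁ v (Fin.castSucc j) = E (v ∘ Sum.inl) j := fun v j => by simp [E₁]
  have hinj : Function.Injective E₁ := by
    rw [injective_iff_map_eq_zero]
    intro v hv
    have hl := (hEl v).symm.trans (congrFun hv _)
    have hc : v ∘ Sum.inl = 0 := by
      refine E.map_eq_zero_iff.1 (funext fun j => ?_)
      rw [← hEc]; exact congrFun hv _
    have h1 : v (.inr 1) = 0 := by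
      by_contra h1
      refine hθ (-(v (.inr 0)) / v (.inr 1)) ?_
      rw [map_div₀, map_neg, div_eq_iff ((map_ne_zero _).2 h1)]
      simp only [Pi.zero_apply] at hl
      linear_combination -hl
    simp only [h1, map_zero, zero_mul, add_zero, Pi.zero_apply, map_eq_zero] at hl
    funext x
    rcases x with i | i
    · exact congrFun hc i
    · fin_cases i
      · exact hl
      · exact h1
  refine ⟨⟨alg, E₁.linearEquivOfInjective hinj ?_⟩, fun v => ?_⟩
  · rw [Module.finrank_fintype_fun_eq_card, finrank_pi hK hF]; simp; ring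
  · show Cfsg.hermForm (k + k + 1) K q (E₁ v) (E₁ v) = _
    have hq : ∀ x : K, x ^ q = conj F K x := fun x => by rw [conj_apply, hF]
    have h := hE (v ∘ Sum.inl)
    simp only [Cfsg.hermForm] at h
    simp only [Cfsg.hermForm, Fin.sum_univ_castSucc, hEl, hEc, h]
    simp only [Cfsg.quadFormMinus, Cfsg.quadFormPlus, Function.comp_apply, hq, map_add, map_mul,
      map_pow, AlgHom.commutes]
    linear_combination (algebraMap F K (v (.inr 0)) * algebraMap F K (v (.inr 1))) * hsum +
      (algebraMap F K (v (.inr 1))) ^ 2 * hprod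

end CfsgLib.UnitaryEmb
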