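import Mathlib
import Cfsg.Agent.Lib.UnitaryEmb.Basic
import Cfsg.Agent.Lib.Forms.Classify

/-!
A symplectic automorphism satisfying `x² + x + 1 = 0` turns the space into a unitary space.
-/

set_option autoImplicit false

namespace CfsgLib.UnitaryEmb

open scoped Matrix
open Module

/-- Coordinates for the Hermitian space defined by an alternating form and a root of `X² + X + 1`. -/
theorem exists_unitary_coords {F K V : Type*} [Field F] [Fintype F] [Field K] [Fintype K]
    [Algebra F K] [AddCommGroup V] [Module F V] [Module K V] [IsScalarTower F K V]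
    [FiniteDimensional F V] {q m : ℕ} (hK : Fintype.card K = q ^ 2) (hF : Fintype.card F = q)
    (θ : K) (hθ : θ ^ 2 + θ + 1 = 0) (hθc : conj F K θ = θ ^ 2)
    (hspan : ∀ z : K, ∃ a b : F, z = algebraMap F K a + algebraMap F K b * θ)
    (hindep : ∀ a b : F, algebraMap F K a + algebraMap F K b * θ = 0 → b = 0)
    (B : LinearMap.BilinForm F V) (hA : B.IsAlt) (hnd : ∀ u, (∀ v, B u v = 0) → u = 0)
    (hBθ : ∀ u v, B (θ • u) (θ • v) = B u v) (hdim : finrank F V = 2 * m) :
    ∃ (E : V ≃ₗ[K] (Fin m → K)) (h : V → V → K),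
      (∀ u v, h u v = algebraMap F K (B (θ • u) v) + (1 + θ) * algebraMap F K (B u v)) ∧
      ∀ u v, Cfsg.hermForm m K q (E u) (E v) = h u v := by
  classical
  have : FiniteDimensional K V := FiniteDimensional.right F K V
  have : Module.Finite F K := Module.Finite.of_finite
  let σ : K →+* K := (conj F K).toRingHom
  have hσ : ∀ z, σ z = z ^ q := fun z => by rw [← hF]; exact conj_apply z
  have hσ2 : ∀ z, σ (σ z) = z := conj_conj hK hF
  have hsw : ∀ u v : V, B v u = -B u v := fun u v => (LinearMap.IsAlt.neg hA u v).symm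
  have hθ3 : θ ^ 3 = 1 := by linear_combination (θ - 1) * hθ
  have hadj : ∀ u v : V, B u (θ • v) = -B (θ • u) v - B u v := by
    intro u v
    have h1 := hBθ ((θ ^ 2) • u) v
    rw [smul_smul, ← pow_succ', hθ3, one_smul, show θ ^ 2 = -θ - 1 by linear_combination hθ] at h1
    rw [h1, sub_smul, neg_smul, one_smul, map_sub, map_neg, LinearMap.sub_apply, LinearMap.neg_apply]
  let h : V → V → K := fun u v =>
    algebraMap F K (B (θ • u) v) + (1 + θ) * algebraMap F K (B u v)
  have hσF : ∀ a : F, σ (algebraMap F K a) = algebraMap F K a := (conj F K).commutes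
  have hsymm : ∀ u v, σ (h u v) = h v u := by
    intro u v
    show σ (_ + _) = algebraMap F K (B (θ • v) u) + (1 + θ) * algebraMap F K (B v u)
    rw [map_add, map_mul, map_add, map_one, hσF, hσF, show σ θ = θ ^ 2 from hθc, hsw u (θ • v),
      hadj, hsw u v]
    simp only [map_neg, map_sub]
    linear_combination algebraMap F K (B u v) * hθ
  have hadd : ∀ u v w, h (u + v) w = h u w + h v w := fun u v w => by
    simp only [h, smul_add, map_add, LinearMap.add_apply]; ring
  have hsmul : ∀ (z : K) u v, h (z • u) v = z * h u v := by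
    intro z u v
    obtain ⟨a, b, rfl⟩ := hspan z
    have h2 : θ • θ • u = -(θ • u) - u := by
      rw [smul_smul, show θ * θ = -θ - 1 by linear_combination hθ, sub_smul, neg_smul, one_smul]
    have e1 : (algebraMap F K a + algebraMap F K b * θ) • u = a • u + b • θ • u := by
      rw [add_smul, mul_smul, algebraMap_smul, algebraMap_smul]
    simp only [h]
    rw [e1, smul_add, smul_comm θ a u, smul_comm θ b (θ • u), h2]
    simp only [map_add, map_sub, map_neg, map_smul, LinearMap.add_apply, LinearMap.sub_apply,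
      LinearMap.neg_apply, LinearMap.smul_apply, smul_eq_mul, map_mul]
    linear_combination (-(algebraMap F K b * algebraMap F K (B u v))) * hθ
  let f : V →ₛₗ[σ] V →ₗ[K] K :=
    LinearMap.mk₂'ₛₗ σ (RingHom.id K) (fun x y => h y x)
      (fun x x' y => by rw [← hsymm, hadd, map_add, hsymm, hsymm])
      (fun z x y => by show h y (z • x) = σ z • h y x; rw [← hsymm, hsmul, map_mul, hsymm, smul_eq_mul])
      (fun x y y' => hadd y y' x) (fun z x y => hsmul z y x)
  have hfS : f.IsSymm := ⟨fun x y => hsymm y x⟩
  have hσne : σ ≠ RingHom.id K := fun hid => by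
    obtain ⟨w, hw⟩ := exists_conj_ne (K := K) hK hF
    exact hw (RingHom.congr_fun hid w)
  have hdimK : finrank K V = m := by
    have h1 := Module.finrank_mul_finrank F K V
    rw [finrank_eq_two hK hF, hdim] at h1
    omega
  have hnd' : ∀ x ∈ (⊤ : Submodule K V), (∀ y ∈ (⊤ : Submodule K V), f x y = 0) → x = 0 := by
    intro x _ hx
    refine hnd x fun v => ?_
    have h1 : h x v = 0 := by
      rw [← hsymm v x, show h v x = f x v from rfl, hx v Submodule.mem_top, map_zero]
    exact hindep (B (θ • x) v + B x v) (B x v) (by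
      rw [map_add, ← h1]; simp only [h]; ring)
  obtain ⟨b, hb, horth⟩ := CfsgLib.Forms.exists_orthonormal_family f hσne hσ2 hfS m ⊤
    (by rw [finrank_top, hdimK]) hnd'
  let bb : Basis (Fin m) K V := basisOfTopLeSpanOfCardEqFinrank b hb.ge (by rw [Fintype.card_fin, hdimK])
  refine ⟨bb.equivFun, h, fun _ _ => rfl, fun u v => ?_⟩
  have hu := bb.sum_equivFun u
  have hv := bb.sum_equivFun v
  simp only [bb, coe_basisOfTopLeSpanOfCardEqFinrank] at hu hv
  have key : ∀ i j, h (b i) (b j) = if i = j then 1 else 0 := fun i j => by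
    rw [show h (b i) (b j) = f (b j) (b i) from rfl, horth]; simp [eq_comm]
  show _ = f v u
  conv_rhs => rw [← hu, ← hv]
  simp only [map_sum, LinearMap.map_smulₛₗ, LinearMap.sum_apply, LinearMap.smul_apply, RingHom.id_apply,
    horth, smul_eq_mul, Cfsg.hermForm, hσ]
  simp [bb, mul_comm]

end CfsgLib.UnitaryEmb
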